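import Cfsg.Agent.Lib.OmegaEight96.CheckDefs
import Cfsg.Agent.Lib.OmegaEight96.Data
import Cfsg.Agent.Lib.OmegaEight96.DataCols

/-!
The movers preserve the form.
-/

set_option autoImplicit false
set_option maxRecDepth 100000

namespace Cfsg.Agent.Lib.OmegaEight96

theorem cols0P0_ok : cols0P0.all (moverOK 0) = true := by decide +kernel

theorem cols0P1_ok : cols0P1.all (moverOK 0) = true := by decide +kernel

theorem cols0P2_ok : cols0P2.all (moverOK 0) = true := by decide +kernel

theorem cols0P3_ok : cols0P3.all (moverOK 0) = true := by decide +kernel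

theorem cols0P4_ok : cols0P4.all (moverOK 0) = true := by decide +kernel

theorem cols0P5_ok : cols0P5.all (moverOK 0) = true := by decide +kernel

theorem cols0P6_ok : cols0P6.all (moverOK 0) = true := by decide +kernel

theorem cols0_ok : cols0.all (moverOK 0) = true := by
  simp only [cols0, List.all_append, Bool.and_eq_true]
  exact ⟨⟨⟨⟨⟨⟨cols0P0_ok, cols0P1_ok⟩, cols0P2_ok⟩, cols0P3_ok⟩, cols0P4_ok⟩, cols0P5_ok⟩, cols0P6_ok⟩

theorem cols1P0_ok : cols1P0.all (moverOK 1) = true := by decide +kernel

theorem cols1_ok : cols1.all (moverOK 1) = true := by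
  simp only [cols1, List.all_append, Bool.and_eq_true]
  exact cols1P0_ok

theorem cols2P0_ok : cols2P0.all (moverOK 2) = true := by decide +kernel

theorem cols2_ok : cols2.all (moverOK 2) = true := by
  simp only [cols2, List.all_append, Bool.and_eq_true]
  exact cols2P0_ok

theorem cols3P0_ok : cols3P0.all (moverOK 3) = true := by decide +kernel

theorem cols3_ok : cols3.all (moverOK 3) = true := by
  simp only [cols3, List.all_append, Bool.and_eq_true]
  exact cols3P0_ok


end Cfsg.Agent.Lib.OmegaEight96
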