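import Cfsg.Agent.Lib.OmegaEight96.Code

/-!
The checks made on the tables.
-/

set_option autoImplicit false

namespace Cfsg.Agent.Lib.OmegaEight96

/-- The code of the first vector of the `k`-th hyperbolic pair. -/
def eCode (k : ℕ) : ℕ := unitC k

/-- The code of the second vector of the `k`-th hyperbolic pair. -/
def fCode (k : ℕ) : ℕ := unitC (4 + k)

/-- The code is orthogonal to the first `k` hyperbolic pairs. -/
def perpC (k n : ℕ) : Bool :=
  (List.range k).all fun i => bC n (eCode i) == 0 && bC n (fCode i) == 0

/-- A nonzero singular vector orthogonal to the first `k` pairs. -/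
def singC (k n : ℕ) : Bool := !(eqC n 0) && (qC n == 0 && perpC k n)

/-- A singular vector orthogonal to the first `k` pairs with product 1 with the next one. -/
def partnerC (k n : ℕ) : Bool := qC n == 0 && (bC n (eCode k) == 1 && perpC k n)

/-- The first `k` pairs are fixed. -/
def frameC (k : ℕ) (M : List ℕ) : Bool :=
  (List.range k).all fun i =>
    eqC (colAt M i) (eCode i) && eqC (colAt M (4 + i)) (fCode i)

/-- The list of codes is the list of the given columns of the matrices. -/
def matchCol (c : ℕ) : List ℕ → List (List ℕ) → Bool
  | [], [] => true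
  | n :: ns, e :: es => eqC (colAt e c) n && matchCol c ns es
  | _, _ => false

/-- A mover at level `k`. -/
def moverOK (k : ℕ) (e : List ℕ) : Bool := isoOK e && frameC k e

/-- Off the column of `f` and the coordinate of `e` the matrix is the identity. -/
def eichlerC (k : ℕ) (M : List ℕ) : Bool :=
  (List.range 8).all fun i => (i == 4 + k) || (List.range 8).all fun j =>
    (j == k) || trit (colAt M i) j == trit (unitC i) j

/-- A transvection at level `k`. -/
def transOK (k : ℕ) (e : List ℕ) : Bool := moverOK k e && eichlerC k e

/-- The cube is 1. -/
def cubeOne (M : List ℕ) : Bool := eqM (mulC (mulC M M) M) oneC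

/-- Conjugations of the products of a transvection with the representatives. -/
def rowOK (k : ℕ) (R : List (List ℕ)) (T : List ℕ) :
    List (List ℕ) → List (Option (ℕ × List ℕ)) → Bool
  | [], [] => true
  | r :: rs, some (a, h) :: os =>
    (decide (a < R.length) && moverOK k h &&
      eqM (mulC h (mulC T r)) (mulC (R.getD a []) h)) && rowOK k R T rs os
  | r :: rs, none :: os => !cubeOne (mulC T r) && rowOK k R T rs os
  | _, _ => false

/-- All rows. -/
def rowsOK (k : ℕ) (R R' : List (List ℕ)) :
    List (List ℕ) → List (List (Option (ℕ × List ℕ))) → Bool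
  | [], [] => true
  | t :: ts, o :: os => rowOK k R t R' o && rowsOK k R R' ts os
  | _, _ => false

/-- The checks on a part of the transvections of a level. -/
def partOK (k : ℕ) (R R' T : List (List ℕ)) (P : List (List (Option (ℕ × List ℕ)))) : Bool :=
  T.all (transOK k) && rowsOK k R R' T P

end Cfsg.Agent.Lib.OmegaEight96
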