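import Cfsg.Agent.Lib.OmegaEight96.CheckDefs
import Cfsg.Agent.Lib.OmegaEight96.Data
import Cfsg.Agent.Lib.OmegaEight96.DataTrans

/-!
Conjugators for the transvections times the representatives.
-/

set_option autoImplicit false
set_option maxRecDepth 100000

namespace Cfsg.Agent.Lib.OmegaEight96

theorem part0P0_ok : partOK 0 rep0 rep1 trans0P0 conj0P0 = true := by
  decide +kernel

theorem part0P1_ok : partOK 0 rep0 rep1 trans0P1 conj0P1 = true := by
  decide +kernel

theorem part0P2_ok : partOK 0 rep0 rep1 trans0P2 conj0P2 = true := by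
  decide +kernel

theorem part0P3_ok : partOK 0 rep0 rep1 trans0P3 conj0P3 = true := by
  decide +kernel


end Cfsg.Agent.Lib.OmegaEight96
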