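import Cfsg.Agent.Lib.OmegaEight96.CheckDefs
import Cfsg.Agent.Lib.OmegaEight96.Data
import Cfsg.Agent.Lib.OmegaEight96.DataTrans

/-!
Conjugators for the transvections times the representatives.
-/

set_option autoImplicit false
set_option maxRecDepth 100000

namespace Cfsg.Agent.Lib.OmegaEight96

theorem part0P4_ok : partOK 0 rep0 rep1 trans0P4 conj0P4 = true := by
  decide +kernel

theorem part0P5_ok : partOK 0 rep0 rep1 trans0P5 conj0P5 = true := by
  decide +kernel

theorem part0P6_ok : partOK 0 rep0 rep1 trans0P6 conj0P6 = true := by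
  decide +kernel

theorem part0P7_ok : partOK 0 rep0 rep1 trans0P7 conj0P7 = true := by
  decide +kernel

theorem part0P8_ok : partOK 0 rep0 rep1 trans0P8 conj0P8 = true := by
  decide +kernel

theorem part1P0_ok : partOK 1 rep1 rep2 trans1P0 conj1P0 = true := by
  decide +kernel

theorem part2P0_ok : partOK 2 rep2 rep3 trans2P0 conj2P0 = true := by
  decide +kernel

theorem part3P0_ok : partOK 3 rep3 rep4 trans3P0 conj3P0 = true := by
  decide +kernel


end Cfsg.Agent.Lib.OmegaEight96
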