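import Cfsg.Agent.Lib.OmegaEight96.CheckCols
import Cfsg.Agent.Lib.OmegaEight96.CheckRowsA
import Cfsg.Agent.Lib.OmegaEight96.CheckRowsB

/-!
All the checks of the tables.
-/

set_option autoImplicit false
set_option maxRecDepth 100000

namespace Cfsg.Agent.Lib.OmegaEight96

/-- A transvection and a representative with a product of order dividing three have a conjugator. -/
def RowsCover (k : ℕ) (R R' T : List (List ℕ)) : Prop :=
  T.all (transOK k) = true ∧ ∀ t ∈ T, ∃ T₀ P, t ∈ T₀ ∧ rowsOK k R R' T₀ P = true

theorem RowsCover.single {k : ℕ} {R R' T : List (List ℕ)} {P : List (List (Option (ℕ × List ℕ)))}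
    (h : partOK k R R' T P = true) : RowsCover k R R' T := by
  simp only [partOK, Bool.and_eq_true] at h
  exact ⟨h.1, fun t ht => ⟨T, P, ht, h.2⟩⟩

theorem RowsCover.append {k : ℕ} {R R' T T' : List (List ℕ)} (h : RowsCover k R R' T)
    (h' : RowsCover k R R' T') : RowsCover k R R' (T ++ T') := by
  refine ⟨by rw [List.all_append, h.1, h'.1]; rfl, fun t ht => ?_⟩
  rcases List.mem_append.1 ht with ht | ht
  exacts [h.2 t ht, h'.2 t ht]

theorem rows0_ok : RowsCover 0 rep0 rep1 trans0 :=
  (RowsCover.append (RowsCover.append (RowsCover.append (RowsCover.append (RowsCover.append (RowsCover.append (RowsCover.append (RowsCover.append (.single part0P0_ok) (.single part0P1_ok)) (.single part0P2_ok)) (.single part0P3_ok)) (.single part0P4_ok)) (.single part0P5_ok)) (.single part0P6_ok)) (.single part0P7_ok)) (.single part0P8_ok))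

theorem rows1_ok : RowsCover 1 rep1 rep2 trans1 :=
  (.single part1P0_ok)

theorem rows2_ok : RowsCover 2 rep2 rep3 trans2 :=
  (.single part2P0_ok)

theorem rows3_ok : RowsCover 3 rep3 rep4 trans3 :=
  (.single part3P0_ok)

theorem match0_ok : matchCol 0 (allCodes.filter (singC 0)) cols0 = true ∧
    matchCol (4 + 0) (allCodes.filter (partnerC 0)) trans0 = true := by
  decide +kernel

theorem match1_ok : matchCol 1 (allCodes.filter (singC 1)) cols1 = true ∧
    matchCol (4 + 1) (allCodes.filter (partnerC 1)) trans1 = true := by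
  decide +kernel

theorem match2_ok : matchCol 2 (allCodes.filter (singC 2)) cols2 = true ∧
    matchCol (4 + 2) (allCodes.filter (partnerC 2)) trans2 = true := by
  decide +kernel

theorem match3_ok : matchCol 3 (allCodes.filter (singC 3)) cols3 = true ∧
    matchCol (4 + 3) (allCodes.filter (partnerC 3)) trans3 = true := by
  decide +kernel

theorem reps_ok : rep0.all (moverOK 0) = true ∧ rep1.all (moverOK 1) = true ∧
    rep2.all (moverOK 2) = true ∧ rep3.all (moverOK 3) = true ∧ rep4.all (moverOK 4) = true := by
  decide +kernel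

theorem rep4_one : rep4.all (fun e => eqM e oneC) = true := by decide +kernel

theorem sing_count : ∀ k : Fin 4, allCodes.countP (singC k.val) % 3 ≠ 0 := by decide +kernel

end Cfsg.Agent.Lib.OmegaEight96
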