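import Cfsg.Agent.Lib.OmegaEight96.Checks

/-!
Every isometry `g` with `g ^ 3 = 1` is conjugate to one of the listed matrices: it fixes a nonzero
singular vector `e` because their number is prime to three, and modulo the transvections along `e`
it is an isometry of the space in two dimensions fewer.
-/

set_option autoImplicit false

namespace Cfsg.Agent.Lib.OmegaEight96

open QuadraticMap

/-- First vector of the `k`-th pair. -/
noncomputable def eV (k : Fin 4) : Vec := Pi.single (.inl k) 1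

/-- Second vector of the `k`-th pair. -/
noncomputable def fV (k : Fin 4) : Vec := Pi.single (.inr k) 1

theorem dec_eCode (k : Fin 4) : dec (eCode k.val) = eV k := dec_unitC (.inl k)

theorem dec_fCode (k : Fin 4) : dec (fCode k.val) = fV k := dec_unitC (.inr k)

theorem num_e (k : Fin 4) : num (.inl k) = k.val := rfl

theorem num_f (k : Fin 4) : num (.inr k) = 4 + k.val := rfl

theorem polar_eV (v : Vec) (k : Fin 4) : polar ⇑form v (eV k) = v (.inr k) := by
  rw [POmegaTriality.polar_apply]; fin_cases k <;> simp [eV]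

theorem polar_fV (v : Vec) (k : Fin 4) : polar ⇑form v (fV k) = v (.inl k) := by
  rw [POmegaTriality.polar_apply]; fin_cases k <;> simp [fV]

theorem polar_eV_fV (k : Fin 4) : polar ⇑form (eV k) (fV k) = 1 := by
  rw [polar_fV]; simp [eV]

theorem form_fV (k : Fin 4) : form (fV k) = 0 := by
  rw [POmegaTriality.Qo_apply]
  simp [fV]

/-- Fixing the first `k` pairs. -/
def Fixes (k : ℕ) (g : Iso8) : Prop :=
  ∀ i : Fin 4, i.val < k → Orth.app g (eV i) = eV i ∧ Orth.app g (fV i) = fV i

theorem Fixes.mul {k : ℕ} {g h : Iso8} (hg : Fixes k g) (hh : Fixes k h) : Fixes k (g * h) :=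
  fun i hi => ⟨by rw [Orth.app_mul, (hh i hi).1, (hg i hi).1],
    by rw [Orth.app_mul, (hh i hi).2, (hg i hi).2]⟩

theorem Fixes.inv {k : ℕ} {g : Iso8} (hg : Fixes k g) : Fixes k g⁻¹ := by
  intro i hi
  constructor
  · conv_lhs => rw [← (hg i hi).1]
    rw [Orth.app_inv_app]
  · conv_lhs => rw [← (hg i hi).2]
    rw [Orth.app_inv_app]

theorem Fixes.mono {k l : ℕ} (h : l ≤ k) {g : Iso8} (hg : Fixes k g) : Fixes l g :=
  fun i hi => hg i (by omega)

theorem fixes_of_frameC {k : ℕ} {g : Iso8} {M : List ℕ} (hg : HasMat g M)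
    (h : frameC k M = true) : Fixes k g := by
  simp only [frameC, List.all_eq_true, List.mem_range, Bool.and_eq_true, eqC_iff] at h
  exact fun i hi =>
    ⟨by rw [eV, hg.app_single, num_e, (h i.val hi).1, dec_eCode]; rfl,
     by rw [fV, hg.app_single, num_f, (h i.val hi).2, dec_fCode]; rfl⟩

theorem exists_mover {k : ℕ} {e : List ℕ} (h : moverOK k e = true) :
    ∃ g : Iso8, HasMat g e ∧ Fixes k g := by
  simp only [moverOK, Bool.and_eq_true] at h
  exact ⟨isoOf e h.1, hasMat_isoOf h.1, fixes_of_frameC (hasMat_isoOf h.1) h.2⟩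

theorem matchCol_spec {c : ℕ} : ∀ {ns : List ℕ} {es : List (List ℕ)}, matchCol c ns es = true →
    ∀ n ∈ ns, ∃ e ∈ es, eqC (colAt e c) n = true
  | [], _, _, n, hn => by simp at hn
  | _ :: _, [], h, _, _ => by simp [matchCol] at h
  | m :: ns, e :: es, h, n, hn => by
    simp only [matchCol, Bool.and_eq_true] at h
    rcases List.mem_cons.1 hn with rfl | hn
    · exact ⟨e, List.mem_cons_self, h.1⟩
    · obtain ⟨e', he', h'⟩ := matchCol_spec h.2 n hn
      exact ⟨e', List.mem_cons_of_mem _ he', h'⟩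

theorem rowOK_spec {k : ℕ} {R : List (List ℕ)} {T : List ℕ} :
    ∀ {R' : List (List ℕ)} {os : List (Option (ℕ × List ℕ))}, rowOK k R T R' os = true →
      ∀ r ∈ R', cubeOne (mulC T r) = true →
        ∃ e ∈ R, ∃ h : List ℕ, moverOK k h = true ∧
          eqM (mulC h (mulC T r)) (mulC e h) = true
  | [], _, _, r, hr, _ => by simp at hr
  | _ :: _, [], h, _, _, _ => by simp [rowOK] at h
  | s :: R', none :: os, h, r, hr, hc => by
    simp only [rowOK, Bool.and_eq_true, Bool.not_eq_true'] at h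
    rcases List.mem_cons.1 hr with rfl | hr
    · simp [h.1] at hc
    · exact rowOK_spec h.2 r hr hc
  | s :: R', some (a, e) :: os, h, r, hr, hc => by
    simp only [rowOK, Bool.and_eq_true, decide_eq_true_eq] at h
    rcases List.mem_cons.1 hr with rfl | hr
    · refine ⟨R.getD a [], ?_, e, h.1.1.2, h.1.2⟩
      rw [List.getD_eq_getElem _ _ h.1.1.1]; exact List.getElem_mem _
    · exact rowOK_spec h.2 r hr hc

theorem rowsOK_spec {k : ℕ} {R R' : List (List ℕ)} :
    ∀ {T : List (List ℕ)} {P : List (List (Option (ℕ × List ℕ)))}, rowsOK k R R' T P = true →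
      ∀ t ∈ T, ∀ r ∈ R', cubeOne (mulC t r) = true →
        ∃ e ∈ R, ∃ h : List ℕ, moverOK k h = true ∧
          eqM (mulC h (mulC t r)) (mulC e h) = true
  | [], _, _, t, ht, _, _, _ => by simp at ht
  | _ :: _, [], h, _, _, _, _, _ => by simp [rowsOK] at h
  | s :: T, o :: P, h, t, ht, r, hr, hc => by
    simp only [rowsOK, Bool.and_eq_true] at h
    rcases List.mem_cons.1 ht with rfl | ht
    · exact rowOK_spec h.1 r hr hc
    · exact rowsOK_spec h.2 t ht r hr hc

/-- The vectors orthogonal to the first `k` pairs. -/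
def Perp (k : ℕ) (v : Vec) : Prop :=
  ∀ i : Fin 4, i.val < k → polar ⇑form v (eV i) = 0 ∧ polar ⇑form v (fV i) = 0

theorem perpC_iff {k : ℕ} (hk : k ≤ 4) (n : ℕ) : perpC k n = true ↔ Perp k (dec n) := by
  simp only [perpC, List.all_eq_true, List.mem_range, Bool.and_eq_true, beq_iff_eq, Perp]
  have key : ∀ m, bC n m = 0 ↔ polar ⇑form (dec n) (dec m) = 0 := fun m => by
    rw [← bC_eq, ← natCast_inj (bC_lt n m) (by norm_num : 0 < 3), Nat.cast_zero]
  constructor
  · intro h i hi
    rw [← dec_eCode, ← dec_fCode, ← key, ← key]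
    exact h i.val hi
  · intro h i hi
    obtain ⟨h1, h3⟩ := h ⟨i, by omega⟩ hi
    rw [← dec_eCode, ← key] at h1
    rw [← dec_fCode, ← key] at h3
    exact ⟨h1, h3⟩

theorem qC_zero_iff (n : ℕ) : qC n = 0 ↔ form (dec n) = 0 := by
  rw [← qC_eq, ← natCast_inj (qC_lt n) (by norm_num : 0 < 3), Nat.cast_zero]

theorem singC_iff {k : ℕ} (hk : k ≤ 4) (n : ℕ) :
    singC k n = true ↔ dec n ≠ 0 ∧ form (dec n) = 0 ∧ Perp k (dec n) := by
  simp only [singC, Bool.and_eq_true, Bool.not_eq_true', ← Bool.not_eq_true, eqC_iff, dec_zero,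
    beq_iff_eq, perpC_iff hk, qC_zero_iff, Ne]

theorem partnerC_iff (k : Fin 4) (n : ℕ) : partnerC k.val n = true ↔
    form (dec n) = 0 ∧ polar ⇑form (dec n) (eV k) = 1 ∧ Perp k.val (dec n) := by
  simp only [partnerC, Bool.and_eq_true, beq_iff_eq, perpC_iff (le_of_lt k.isLt), qC_zero_iff]
  rw [← dec_eCode, ← bC_eq, ← natCast_inj (bC_lt _ _) (by norm_num : 1 < 3), Nat.cast_one]

theorem perp_app {k : ℕ} {g : Iso8} (hg : Fixes k g) {v : Vec} (hv : Perp k v) :
    Perp k (Orth.app g v) := fun i hi => by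
  constructor
  · rw [← (hg i hi).1, Orth.polar_app]; exact (hv i hi).1
  · rw [← (hg i hi).2, Orth.polar_app]; exact (hv i hi).2

theorem perp_pair (k : Fin 4) : Perp k.val (eV k) ∧ Perp k.val (fV k) := by
  constructor <;> intro i hi <;> constructor <;>
    first
      | (rw [polar_eV]; simp [eV, fV, (Fin.ne_of_lt hi : i ≠ k)])
      | (rw [polar_fV]; simp [eV, fV, (Fin.ne_of_lt hi : i ≠ k)])

theorem exists_fixed {k : ℕ} (hk : k ≤ 4) (hcount : allCodes.countP (singC k) % 3 ≠ 0) {g : Iso8}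
    (hg : g ^ 3 = 1) (hgk : Fixes k g) :
    ∃ v : Vec, (v ≠ 0 ∧ form v = 0 ∧ Perp k v) ∧ Orth.app g v = v := by
  classical
  let S := {v : Vec // v ≠ 0 ∧ form v = 0 ∧ Perp k v}
  have hcard : Fintype.card S = allCodes.countP (singC k) := by
    rw [Fintype.card_subtype]
    exact card_filter_eq_countP _ _ (singC_iff hk)
  have hmem : ∀ {a : Iso8}, Fixes k a → ∀ v : S,
      Orth.app a v.1 ≠ 0 ∧ form (Orth.app a v.1) = 0 ∧ Perp k (Orth.app a v.1) := fun {a} ha v =>
    ⟨fun e => v.2.1 (Orth.app_injective a (e.trans (Orth.app_zero a).symm)),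
      by rw [Orth.Q_app]; exact v.2.2.1, perp_app ha v.2.2.2⟩
  let σ : Equiv.Perm S :=
    { toFun := fun v => ⟨Orth.app g v.1, hmem hgk v⟩
      invFun := fun v => ⟨Orth.app g⁻¹ v.1, hmem hgk.inv v⟩
      left_inv := fun v => Subtype.ext (Orth.app_inv_app g v.1)
      right_inv := fun v => Subtype.ext (Orth.app_app_inv g v.1) }
  have hσ : σ ^ 3 ^ 1 = 1 := by
    refine Equiv.ext fun v => Subtype.ext ?_
    show Orth.app g (Orth.app g (Orth.app g v.1)) = v.1
    rw [← Orth.app_mul, ← Orth.app_mul, ← pow_two, ← pow_succ, hg, Orth.app_one]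
  have : Fact (Nat.Prime 3) := ⟨by norm_num⟩
  obtain ⟨a, ha⟩ := Equiv.Perm.exists_fixed_point_of_prime (p := 3)
    (by rw [hcard]; omega) hσ
  exact ⟨a.1, a.2, congrArg Subtype.val ha⟩

/-- Isometries fixing `e`, `f` and agreeing modulo `e` on `e⊥` are equal. -/
theorem eq_of_mod_e {k : Fin 4} {a b : Iso8} (ha : Orth.app a (eV k) = eV k)
    (ha' : Orth.app a (fV k) = fV k) (hb : Orth.app b (eV k) = eV k)
    (hb' : Orth.app b (fV k) = fV k)
    (h : ∀ w, polar ⇑form w (eV k) = 0 → ∃ c : ZMod 3, Orth.app a w = Orth.app b w + c • eV k) :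
    a = b := by
  refine Orth.isometry_ext fun x => ?_
  have hx : polar ⇑form (x - x (.inr k) • fV k) (eV k) = 0 := by
    rw [polar_eV]; simp [fV]
  obtain ⟨c, hc⟩ := h _ hx
  set w := x - x (.inr k) • fV k
  have hc0 : c = 0 := by
    have e1 := congrArg (fun z => polar ⇑form z (fV k)) hc
    simp only [polar_add_left, polar_smul_left, polar_eV_fV, smul_eq_mul, mul_one] at e1
    have ea : polar ⇑form (Orth.app a w) (fV k) = polar ⇑form w (fV k) := by
      conv_lhs => rw [← ha', Orth.polar_app]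
    have eb : polar ⇑form (Orth.app b w) (fV k) = polar ⇑form w (fV k) := by
      conv_lhs => rw [← hb', Orth.polar_app]
    rw [ea, eb] at e1
    linear_combination -e1
  rw [hc0, zero_smul, add_zero] at hc
  have e : x = w + x (.inr k) • fV k := by simp [w]
  rw [e, Orth.app_add, Orth.app_add, Orth.app_smul, Orth.app_smul, hc, ha', hb']

theorem eichler_app {k : Fin 4} {t : Iso8} {M : List ℕ} (ht : HasMat t M)
    (h : eichlerC k.val M = true) {w : Vec} (hw : polar ⇑form w (eV k) = 0) :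
    ∃ c : ZMod 3, Orth.app t w = w + c • eV k := by
  rw [polar_eV] at hw
  simp only [eichlerC, List.all_eq_true, List.mem_range, Bool.or_eq_true, beq_iff_eq] at h
  refine ⟨Orth.app t w (.inl k) - w (.inl k), funext fun j => ?_⟩
  by_cases hj : j = .inl k
  · subst hj; simp [eV]
  · simp only [Pi.add_apply, Pi.smul_apply, eV, Pi.single_eq_of_ne hj, smul_zero, add_zero]
    rw [Orth.app, ht, Matrix.mulVec, dotProduct]
    rw [Finset.sum_eq_single j]
    · rcases eq_or_ne j (.inr k) with rfl | hjf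
      · rw [hw, mul_zero]
      · have hnf : num j ≠ 4 + k.val := fun e => hjf (by
          rw [← idxAt_num j, e, ← num_f, idxAt_num])
        have hne : num j ≠ k.val := fun e => hj (by
          rw [← idxAt_num j, e, ← num_e, idxAt_num])
        have := ((h _ (num_lt j)).resolve_left hnf _ (num_lt j)).resolve_left hne
        show dec (colAt M (num j)) j * w j = w j
        rw [dec, this]
        show dec (unitC (num j)) j * w j = w j
        rw [dec_unitC]; simp
    · intro i _ hij
      rcases eq_or_ne i (.inr k) with rfl | hif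
      · rw [hw, mul_zero]
      · have hnf : num i ≠ 4 + k.val := fun e => hif (by
          rw [← idxAt_num i, e, ← num_f, idxAt_num])
        have hne : num j ≠ k.val := fun e => hj (by
          rw [← idxAt_num j, e, ← num_e, idxAt_num])
        have := ((h _ (num_lt i)).resolve_left hnf _ (num_lt j)).resolve_left hne
        show dec (colAt M (num i)) j * w i = 0
        rw [dec, this]
        show dec (unitC (num i)) j * w i = 0
        rw [dec_unitC]; simp [Ne.symm hij]
    · simp

/-- Every element of order dividing three fixing `k` pairs is conjugate into the list. -/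
def Classified (k : ℕ) (R : List (List ℕ)) : Prop :=
  ∀ g : Iso8, g ^ 3 = 1 → Fixes k g →
    ∃ h : Iso8, Fixes k h ∧ ∃ e ∈ R, HasMat (h * g * h⁻¹) e

theorem fixes_succ {k : Fin 4} {g : Iso8} (h : Fixes k.val g) (he : Orth.app g (eV k) = eV k)
    (hf : Orth.app g (fV k) = fV k) : Fixes (k.val + 1) g := fun i hi => by
  rcases Nat.lt_or_ge i.val k.val with h1 | h1
  · exact h i h1
  · obtain rfl : i = k := Fin.ext (by omega)
    exact ⟨he, hf⟩

theorem cube_conj {g h : Iso8} (hg : g ^ 3 = 1) : (h * g * h⁻¹) ^ 3 = 1 := by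
  rw [conj_pow, hg, mul_one, mul_inv_cancel]

/-- A transvection moving `f` to the same place. -/
theorem exists_trans {k : Fin 4} {T : List (List ℕ)}
    (hm : matchCol (4 + k.val) (allCodes.filter (partnerC k.val)) T = true)
    (hT : T.all (transOK k.val) = true) {g : Iso8} (hg : Fixes k.val g)
    (he : Orth.app g (eV k) = eV k) :
    ∃ e ∈ T, ∃ t : Iso8, HasMat t e ∧ Fixes k.val t ∧ eichlerC k.val e = true ∧
      Orth.app t (eV k) = eV k ∧ Fixes (k.val + 1) (t⁻¹ * g) := by
  obtain ⟨n, hn, hne⟩ := exists_code (Orth.app g (fV k))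
  have hp : partnerC k.val n = true := by
    rw [partnerC_iff, hne]
    refine ⟨by rw [Orth.Q_app, form_fV], ?_, perp_app hg (perp_pair k).2⟩
    rw [← he, Orth.polar_app, polar_comm, polar_eV_fV]
  obtain ⟨e, hmem, hcol⟩ := matchCol_spec hm n (List.mem_filter.2 ⟨hn, hp⟩)
  have hOK := List.all_eq_true.1 hT e hmem
  simp only [transOK, Bool.and_eq_true] at hOK
  obtain ⟨t, ht, htk⟩ := exists_mover hOK.1
  have hte : Orth.app t (eV k) = eV k := by
    obtain ⟨c, hc⟩ := eichler_app ht hOK.2 (w := eV k) (by rw [polar_eV]; simp [eV])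
    have hp' : polar ⇑form (Orth.app t (eV k)) (Orth.app t (fV k)) = 1 := by
      rw [Orth.polar_app, polar_eV_fV]
    have htf : Orth.app t (fV k) = dec n := by
      rw [fV, ht.app_single, num_f, (eqC_iff _ _).1 hcol]
    have hc0 : c = 0 := by
      rw [hc, htf, polar_add_left, polar_smul_left, polar_comm ⇑form (eV k)] at hp'
      rw [((partnerC_iff k n).1 hp).2.1, smul_eq_mul, mul_one] at hp'
      linear_combination hp'
    rw [hc, hc0, zero_smul, add_zero]
  refine ⟨e, hmem, t, ht, htk, hOK.2, hte, fixes_succ (htk.inv.mul hg) ?_ ?_⟩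
  · rw [Orth.app_mul, he]
    conv_lhs => rw [← hte, Orth.app_inv_app]
  · rw [Orth.app_mul, ← hne, ← (eqC_iff _ _).1 hcol, ← num_f, ← ht.app_single, Orth.app_inv_app]
    rfl

theorem classified_step (k : Fin 4) {R R' C T : List (List ℕ)}
    (hC : matchCol k.val (allCodes.filter (singC k.val)) C = true)
    (hTc : matchCol (4 + k.val) (allCodes.filter (partnerC k.val)) T = true)
    (hCm : C.all (moverOK k.val) = true) (hP : RowsCover k.val R R' T)
    (hcount : allCodes.countP (singC k.val) % 3 ≠ 0) (ih : Classified (k.val + 1) R') :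
    Classified k.val R := by
  have hTm := hP.1
  intro g hg hgk
  obtain ⟨v, ⟨hv, hgv⟩⟩ := exists_fixed (le_of_lt k.isLt) hcount hg hgk
  obtain ⟨n, hn, rfl⟩ := exists_code v
  obtain ⟨ev, hev, hcol⟩ := matchCol_spec hC n
    (List.mem_filter.2 ⟨hn, (singC_iff (le_of_lt k.isLt) n).2 hv⟩)
  obtain ⟨a, ha, hak⟩ := exists_mover (List.all_eq_true.1 hCm ev hev)
  have hae : Orth.app a (eV k) = dec n := by
    rw [eV, ha.app_single, num_e, (eqC_iff _ _).1 hcol]
  set g1 := a⁻¹ * g * a with hg1def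
  have hg1 : g1 ^ 3 = 1 := by
    have := cube_conj (h := a⁻¹) hg
    rwa [inv_inv] at this
  have hg1k : Fixes k.val g1 := (hak.inv.mul hgk).mul hak
  have hg1e : Orth.app g1 (eV k) = eV k := by
    rw [hg1def, Orth.app_mul, Orth.app_mul, hae, hgv, ← hae, Orth.app_inv_app]
  obtain ⟨et, -, t, ht, -, hte, htfix, hg2k⟩ := exists_trans hTc hTm hg1k hg1e
  set g2 := t⁻¹ * g1 with hg2def
  have hg2e := (hg2k k (by omega)).1
  have hg2f := (hg2k k (by omega)).2
  have hg12 : g1 = t * g2 := by rw [hg2def]; group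
  have hmod : ∀ m : ℕ, ∀ w, polar ⇑form w (eV k) = 0 →
      ∃ c : ZMod 3, Orth.app (g1 ^ m) w = Orth.app (g2 ^ m) w + c • eV k := by
    intro m
    induction m with
    | zero => exact fun w _ => ⟨0, by simp⟩
    | succ m ih' =>
      intro w hw
      obtain ⟨c, hc⟩ := ih' w hw
      have hp : polar ⇑form (Orth.app (g2 ^ (m + 1)) w) (eV k) = 0 := by
        have e : Orth.app (g2 ^ (m + 1)) (eV k) = eV k := by
          clear hc c
          generalize m + 1 = r
          induction r with
          | zero => simp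
          | succ r ihr => rw [pow_succ, Orth.app_mul, hg2e, ihr]
        rw [← e, Orth.polar_app]; exact hw
      obtain ⟨d, hd⟩ := eichler_app ht hte hp
      refine ⟨d + c, ?_⟩
      rw [pow_succ' g1, Orth.app_mul, hc, Orth.app_add, Orth.app_smul, hg1e, hg12, Orth.app_mul,
        ← Orth.app_mul g2, ← pow_succ', hd]
      module
  have hg2 : g2 ^ 3 = 1 := by
    refine eq_of_mod_e (k := k) ?_ ?_ (Orth.app_one _) (Orth.app_one _) fun w hw => ?_
    · simp only [pow_succ, pow_zero, one_mul, Orth.app_mul, hg2e]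
    · simp only [pow_succ, pow_zero, one_mul, Orth.app_mul, hg2f]
    · obtain ⟨c, hc⟩ := hmod 3 w hw
      rw [hg1] at hc
      exact ⟨-c, by rw [hc]; module⟩
  obtain ⟨h2, hh2, r, hr, hrm⟩ := ih g2 hg2 hg2k
  set g1' := h2 * g1 * h2⁻¹ with hg1'def
  have h2k : Fixes k.val h2 := hh2.mono (by omega)
  have h2e := (hh2 k (by omega)).1
  have h2e' := (hh2.inv k (by omega)).1
  obtain ⟨et', het', t', ht', -, hte', htfix', hg2'k⟩ := exists_trans hTc hTm
    ((h2k.mul hg1k).mul h2k.inv : Fixes k.val g1')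
    (by rw [Orth.app_mul, Orth.app_mul, h2e', hg1e, h2e])
  have hy : Fixes (k.val + 1) (h2 * g2 * h2⁻¹) :=
    ((hh2.mul hg2k).mul hh2.inv)
  have hkey : t'⁻¹ * g1' = h2 * g2 * h2⁻¹ := by
    refine eq_of_mod_e (k := k) (hg2'k k (by omega)).1 (hg2'k k (by omega)).2
      (hy k (by omega)).1 (hy k (by omega)).2 fun w hw => ?_
    have hw1 : polar ⇑form (Orth.app h2⁻¹ w) (eV k) = 0 := by
      rw [← h2e', Orth.polar_app]; exact hw
    obtain ⟨c, hc⟩ := hmod 1 _ hw1
    simp only [pow_one] at hc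
    have hp' : polar ⇑form (Orth.app (t'⁻¹ * g1') w) (eV k) = 0 := by
      rw [← (hg2'k k (by omega)).1, Orth.polar_app]; exact hw
    obtain ⟨d, hd⟩ := eichler_app ht' hte' hp'
    rw [Orth.app_mul, Orth.app_app_inv, hg1'def, Orth.app_mul, Orth.app_mul, hc,
      Orth.app_add, Orth.app_smul, h2e] at hd
    refine ⟨c - d, ?_⟩
    have e2 : Orth.app (h2 * g2 * h2⁻¹) w = Orth.app h2 (Orth.app g2 (Orth.app h2⁻¹ w)) := by
      rw [Orth.app_mul, Orth.app_mul]
    rw [e2]
    simp only [hg1'def, Orth.app_mul, hc, Orth.app_add, Orth.app_smul, h2e] at hd ⊢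
    linear_combination (norm := module) -hd
  have hg1'm : HasMat g1' (mulC et' r) := by
    have e : g1' = t' * (h2 * g2 * h2⁻¹) := by rw [← hkey]; group
    rw [e]; exact ht'.mul hrm
  have hcube : cubeOne (mulC et' r) = true := by
    refine (HasMat.eq_iff ((hg1'm.mul hg1'm).mul hg1'm) hasMat_one).1 ?_
    rw [← pow_two, ← pow_succ, hg1'def, cube_conj hg1]
  obtain ⟨T₀, P, het0, hrows⟩ := hP.2 et' het'
  obtain ⟨e, he, h, hh, heq⟩ := rowsOK_spec hrows et' het0 r hr hcube
  obtain ⟨b, hb, hbk⟩ := exists_mover hh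
  refine ⟨b * h2 * a⁻¹, (hbk.mul h2k).mul hak.inv, e, he, ?_⟩
  have e1 : b * h2 * a⁻¹ * g * (b * h2 * a⁻¹)⁻¹ = b * g1' * b⁻¹ := by
    rw [hg1'def, hg1def]; group
  rw [e1]
  unfold HasMat
  have hbm := hb.mul hg1'm
  unfold HasMat at hbm hb
  rw [(toMat_eq_iff _ _).1 heq, toMat_mulC, ← hb] at hbm
  rw [Subgroup.coe_mul, Units.val_mul, hbm, mul_assoc, Subgroup.coe_inv, Units.mul_inv, mul_one]

theorem classified_four : Classified 4 rep4 := by
  intro g _ hfix
  refine ⟨1, fun i _ => ⟨Orth.app_one _, Orth.app_one _⟩, ?_⟩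
  have h1 : g = 1 := by
    apply Subtype.ext
    apply Units.ext
    ext i j
    have : Orth.app g (Pi.single j 1) = Pi.single j 1 := by
      rcases j with k | k
      · exact (hfix k k.isLt).1
      · exact (hfix k k.isLt).2
    rw [Orth.app, Matrix.mulVec_single_one] at this
    have := congrFun this i
    simpa [Matrix.one_apply, Pi.single_apply] using this
  obtain ⟨e, he⟩ := List.exists_mem_of_ne_nil rep4 (List.cons_ne_nil _ _)
  refine ⟨e, he, ?_⟩
  rw [h1, mul_one, mul_inv_cancel]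
  unfold HasMat
  rw [(toMat_eq_iff _ _).1 (List.all_eq_true.1 rep4_one e he), toMat_oneC]
  rfl

/-- The classification of the isometries with `g ^ 3 = 1`. -/
theorem exists_conj_rep {g : Iso8} (hg : g ^ 3 = 1) :
    ∃ h : Iso8, ∃ e ∈ rep0, HasMat (h * g * h⁻¹) e := by
  have h3 : Classified 3 rep3 :=
    classified_step ⟨3, by norm_num⟩ match3_ok.1 match3_ok.2 cols3_ok rows3_ok (sing_count 3) classified_four
  have h2 : Classified 2 rep2 :=
    classified_step ⟨2, by norm_num⟩ match2_ok.1 match2_ok.2 cols2_ok rows2_ok (sing_count 2) h3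
  have h1 : Classified 1 rep1 :=
    classified_step ⟨1, by norm_num⟩ match1_ok.1 match1_ok.2 cols1_ok rows1_ok (sing_count 1) h2
  have h0 : Classified 0 rep0 :=
    classified_step ⟨0, by norm_num⟩ match0_ok.1 match0_ok.2 cols0_ok rows0_ok (sing_count 0) h1
  obtain ⟨h, -, r⟩ := h0 g hg fun i hi => absurd hi (Nat.not_lt_zero _)
  exact ⟨h, r⟩

end Cfsg.Agent.Lib.OmegaEight96
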