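import Cfsg.Agent.Lib.OmegaEight96.Classify

/-!
Thirteen isometries of order three in `Ω⁺(8,3)` covering all classes of elements of order three.
-/

set_option autoImplicit false
set_option maxRecDepth 100000

namespace Cfsg.Agent.Lib.OmegaEight96

open QuadraticMap

theorem two_ne : (2 : ZMod 3) ≠ 0 := by decide

theorem form_nondeg : (QuadraticMap.polarBilin form).Nondegenerate := POmegaClass.plusForm_nondegenerate

theorem card_idx : Fintype.card Idx = 8 := by decide

/-- The sign of the determinant. -/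
noncomputable abbrev dsign : Iso8 →* ℤˣ := Orth.detSign form two_ne form_nondeg

/-- The spinor character. -/
noncomputable abbrev spin : Iso8 →* ℤˣ := Orth.spinor form

theorem mem_omega_iff8 (g : Iso8) : g ∈ Omega (ZMod 3) ⇑form ↔ dsign g = 1 ∧ spin g = 1 :=
  Orth.mem_omega_iff two_ne form_nondeg (by rw [card_idx]; norm_num) g

theorem map_cube_eq_one (χ : Iso8 →* ℤˣ) {g : Iso8} (hg : g ^ 3 = 1) : χ g = 1 := by
  have h : χ g ^ 3 = 1 := by rw [← map_pow, hg, map_one]
  rcases Int.units_eq_one_or (χ g) with e | e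
  · exact e
  · rw [e] at h; exact absurd h (by decide)

theorem mem_omega_of_cube {g : Iso8} (hg : g ^ 3 = 1) : g ∈ Omega (ZMod 3) ⇑form :=
  (mem_omega_iff8 g).2 ⟨map_cube_eq_one _ hg, map_cube_eq_one _ hg⟩

theorem cube_of_cubeOne {g : Iso8} {M : List ℕ} (hg : HasMat g M) (h : cubeOne M = true) :
    g ^ 3 = 1 := by
  rw [pow_succ, pow_two]
  exact (HasMat.eq_iff ((hg.mul hg).mul hg) hasMat_one).2 h

/-! ### Products of reflections -/

/-- The matrix of a reflection. -/
def reflM (v : ℕ) : List ℕ :=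
  (List.range 8).map fun i => addC (unitC i) (scaleC (2 * (qC v * bC v (unitC i))) v)

/-- A product of reflections. -/
noncomputable def rp : List ℕ → Iso8
  | [] => 1
  | v :: vs => (if h : form (dec v) ≠ 0 then Orth.refl form (dec v) h else 1) * rp vs

/-- The matrix of a product of reflections. -/
def rpM : List ℕ → List ℕ
  | [] => oneC
  | v :: vs => mulC (reflM v) (rpM vs)

theorem hasMat_refl (v : ℕ) (h : form (dec v) ≠ 0) :
    HasMat (Orth.refl form (dec v) h) (reflM v) := by
  unfold HasMat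
  ext i j
  have e := congrFun (Orth.app_refl h (Pi.single j 1)) i
  rw [Orth.app, Matrix.mulVec_single_one] at e
  refine e.trans ?_
  have hc : colAt (reflM v) (num j) =
      addC (unitC (num j)) (scaleC (2 * (qC v * bC v (unitC (num j)))) v) := by
    rw [colAt, reflM, List.getD_eq_getElem _ _ (by simpa using num_lt j)]
    simp
  show _ = dec (colAt (reflM v) (num j)) i
  rw [hc, dec_addC, dec_scaleC, Nat.cast_mul, Nat.cast_mul, qC_eq, bC_eq, dec_unitC]
  have hinv : ∀ a : ZMod 3, a⁻¹ = a := by decide +kernel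
  have h2 : ((2 : ℕ) : ZMod 3) = -1 := by decide
  simp only [hinv, h2, Pi.sub_apply, Pi.add_apply, Pi.smul_apply, smul_eq_mul]
  ring

theorem rp_spec : ∀ {L : List ℕ}, L.all (fun v => qC v != 0) = true →
    HasMat (rp L) (rpM L) ∧ dsign (rp L) = (-1) ^ L.length ∧
      spin (rp L) = (-1) ^ L.countP (fun v => qC v == 1)
  | [], _ => ⟨hasMat_one, by simp [rp], by simp [rp]⟩
  | v :: vs, h => by
    simp only [List.all_cons, Bool.and_eq_true, bne_iff_ne] at h
    have hv : form (dec v) ≠ 0 := fun e => h.1 ((qC_zero_iff v).2 e)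
    obtain ⟨h1, h3, h4⟩ := rp_spec (L := vs) (by simpa [List.all_eq_true] using h.2)
    simp only [rp, dif_pos hv]
    refine ⟨(hasMat_refl v hv).mul h1, ?_, ?_⟩
    · rw [map_mul, h3, Orth.detSign_refl two_ne _ hv, List.length_cons, pow_succ']
    · rw [map_mul, h4, List.countP_cons]
      rcases (by have := qC_lt v; have := h.1; omega : qC v = 1 ∨ qC v = 2) with e | e
      · have hs : IsSquare (form (dec v)) := by
          rw [← qC_eq, e, Nat.cast_one]; exact IsSquare.one
        rw [Orth.spinor_refl_of_isSquare two_ne hv hs, e, pow_add]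
        simp
      · have hs : ¬ IsSquare (form (dec v)) := by
          rw [← qC_eq, e]
          rintro ⟨r, hr⟩
          revert hr; revert r; decide
        rw [Orth.spinor_refl_of_not_isSquare two_ne hv hs, e]
        simp

/-- A list of vectors whose product of reflections lies in `Ω` and conjugates `A` to `B`. -/
def conjOK (L A B : List ℕ) : Bool :=
  L.all (fun v => qC v != 0) && L.length % 2 == 0 && L.countP (fun v => qC v == 1) % 2 == 0 &&
    eqM (mulC (rpM L) A) (mulC B (rpM L))

theorem conjOK_spec {L A B : List ℕ} (h : conjOK L A B = true) {x y : Iso8} (hx : HasMat x A)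
    (hy : HasMat y B) : ∃ s ∈ Omega (ZMod 3) ⇑form, s * x * s⁻¹ = y := by
  simp only [conjOK, Bool.and_eq_true, beq_iff_eq] at h
  obtain ⟨⟨⟨h1, h2⟩, h3⟩, h4⟩ := h
  obtain ⟨hm, hd, hs⟩ := rp_spec h1
  exact ⟨rp L, (mem_omega_iff8 _).2 ⟨by rw [hd, (Nat.even_iff.2 h2).neg_one_pow],
    by rw [hs, (Nat.even_iff.2 h3).neg_one_pow]⟩, HasMat.conj_eq hm hx hy h4⟩

/-! ### Representatives -/

/-- The matrix of a representative. -/
def repM (i : Fin 13) : List ℕ := repList.getD i.val []

theorem repM_ok : ∀ i : Fin 13,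
    isoOK (repM i) = true ∧ cubeOne (repM i) = true ∧ eqM (repM i) oneC = false := by
  decide +kernel

/-- The representatives. -/
noncomputable def rep (i : Fin 13) : Iso8 := isoOf (repM i) (repM_ok i).1

theorem hasMat_rep (i : Fin 13) : HasMat (rep i) (repM i) := hasMat_isoOf _

theorem rep_cube (i : Fin 13) : rep i ^ 3 = 1 := cube_of_cubeOne (hasMat_rep i) (repM_ok i).2.1

theorem rep_ne_one (i : Fin 13) : rep i ≠ 1 := fun e => by
  have h := (HasMat.eq_iff (hasMat_rep i) hasMat_one).1 e
  rw [(repM_ok i).2.2] at h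
  exact Bool.false_ne_true h

theorem rep0_first : eqM (rep0.getD 0 []) oneC = true ∧ rep0.length = 9 := by decide +kernel

/-- An entry of the table of adjustments. -/
def shiftAt (e : Fin 8) (a b : Fin 2) : ℕ × List ℕ :=
  (shiftTable.getD e.val []).getD (2 * a.val + b.val) (13, [])

theorem shift_ok : ∀ (e : Fin 8) (a b : Fin 2), (shiftAt e a b).1 < 13 ∧
    (shiftAt e a b).2.all (fun v => qC v != 0) = true ∧ (shiftAt e a b).2.length % 2 = a.val ∧
    (shiftAt e a b).2.countP (fun v => qC v == 1) % 2 = b.val ∧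
    eqM (mulC (rpM (shiftAt e a b).2) (rep0.getD (e.val + 1) []))
      (mulC (repList.getD (shiftAt e a b).1 []) (rpM (shiftAt e a b).2)) = true := by
  decide +kernel

/-- Every element of order three is conjugate in `Ω` to one of the thirteen. -/
theorem exists_conj_rep_omega {g : Iso8} (hg : g ^ 3 = 1) (hg1 : g ≠ 1) :
    ∃ s ∈ Omega (ZMod 3) ⇑form, ∃ i : Fin 13, s * g * s⁻¹ = rep i := by
  obtain ⟨h, e, he, hm⟩ := exists_conj_rep hg
  obtain ⟨j, hj, rfl⟩ := List.getElem_of_mem he
  rw [← List.getD_eq_getElem _ [] hj] at hm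
  have hj0 : j ≠ 0 := by
    rintro rfl
    have h1 : h * g * h⁻¹ = 1 := (HasMat.eq_iff hm hasMat_one).2 rep0_first.1
    exact hg1 (by simpa using h1)
  have hsign : ∀ s : ℤˣ, ∃ a : Fin 2, s = (-1) ^ a.val := fun s => by
    rcases Int.units_eq_one_or s with rfl | rfl
    exacts [⟨0, rfl⟩, ⟨1, rfl⟩]
  obtain ⟨a, ha⟩ := hsign (dsign h)
  obtain ⟨b, hb⟩ := hsign (spin h)
  obtain ⟨hlt, hq, hl, hc, heq⟩ := shift_ok ⟨j - 1, by have := rep0_first.2; omega⟩ a b
  generalize hp : shiftAt ⟨j - 1, _⟩ a b = p at hlt hq hl hc heq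
  obtain ⟨hk, hd, hs⟩ := rp_spec hq
  rw [show (j - 1) + 1 = j by omega] at heq
  refine ⟨rp p.2 * h, (mem_omega_iff8 _).2 ⟨?_, ?_⟩, ⟨p.1, hlt⟩, ?_⟩
  · rw [map_mul, hd, ha, ← pow_add]; exact (Nat.even_iff.2 (by omega)).neg_one_pow
  · rw [map_mul, hs, hb, ← pow_add]; exact (Nat.even_iff.2 (by omega)).neg_one_pow
  · rw [show ∀ k : Iso8, k * h * g * (k * h)⁻¹ = k * (h * g * h⁻¹) * k⁻¹ from fun k => by group]
    exact HasMat.conj_eq hk hm (hasMat_rep _) heq

/-! ### An invariant -/

/-- The number of fixed vectors with a given value of the form. -/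
noncomputable def fixCount (c : ℕ) (g : Iso8) : ℕ := by
  classical exact (Finset.univ.filter fun v : Vec => Orth.app g v = v ∧ form v = (c : ZMod 3)).card

theorem fixCount_conj (c : ℕ) (g h : Iso8) : fixCount c (h * g * h⁻¹) = fixCount c g := by
  classical
  unfold fixCount
  refine Finset.card_bij' (fun v _ => Orth.app h⁻¹ v) (fun v _ => Orth.app h v) ?_ ?_ ?_ ?_
  · intro v hv
    simp only [Finset.mem_filter, Finset.mem_univ, true_and, Orth.Q_app, Orth.app_mul] at hv ⊢
    refine ⟨?_, hv.2⟩
    conv_rhs => rw [← hv.1, Orth.app_inv_app]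
  · intro v hv
    simp only [Finset.mem_filter, Finset.mem_univ, true_and, Orth.Q_app, Orth.app_mul,
      Orth.app_inv_app] at hv ⊢
    exact ⟨by rw [hv.1], hv.2⟩
  · intro v _; exact Orth.app_app_inv h v
  · intro v _; exact Orth.app_inv_app h v

theorem fixCount_inv (c : ℕ) (g : Iso8) : fixCount c g⁻¹ = fixCount c g := by
  classical
  unfold fixCount
  congr 1
  refine Finset.filter_congr fun v _ => and_congr_left fun _ => ?_
  constructor <;> intro h <;> conv_lhs => rw [← h]
  · exact Orth.app_app_inv g v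
  · exact Orth.app_inv_app g v

/-- The fixed vectors with a given value, on codes. -/
def fixC (c : ℕ) (M : List ℕ) (n : ℕ) : Bool := eqC (appC M n) n && qC n == c

theorem fixCount_eq {g : Iso8} {M : List ℕ} (hg : HasMat g M) {c : ℕ} (hc : c < 3) :
    fixCount c g = allCodes.countP (fixC c M) := by
  classical
  unfold fixCount
  refine card_filter_eq_countP _ _ fun n => ?_
  simp only [fixC, Bool.and_eq_true, beq_iff_eq, eqC_iff, hg.app_dec, ← qC_eq,
    natCast_inj (qC_lt n) hc]

/-- The fixed vector counts for the values 0 and 1, by class. -/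
def fixTable : List (ℕ × ℕ) :=
  [(297, 216), (81, 0), (81, 0), (81, 0), (81, 0), (243, 270), (243, 216), (45, 18), (27, 54),
    (27, 54), (27, 0), (27, 0), (9, 36)]

/-- The counts of a class. -/
def fixT (i : Fin 13) : ℕ × ℕ := fixTable.getD i.val (0, 0)

theorem fix_value : ∀ i : Fin 13,
    (allCodes.countP (fixC 0 (repM i)), allCodes.countP (fixC 1 (repM i))) = fixT i := by
  decide +kernel

theorem fixT_eq_of_conj {g : Iso8} {i j : Fin 13}
    (h : g * rep i * g⁻¹ = rep j ∨ g * rep i * g⁻¹ = (rep j)⁻¹) : fixT i = fixT j := by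
  have hc : ∀ c < 3, allCodes.countP (fixC c (repM i)) = allCodes.countP (fixC c (repM j)) := by
    intro c hc
    rw [← fixCount_eq (hasMat_rep i) hc, ← fixCount_eq (hasMat_rep j) hc,
      ← fixCount_conj c (rep i) g]
    rcases h with e | e <;> rw [e]
    exact fixCount_inv c _
  rw [← fix_value, ← fix_value, hc 0 (by norm_num), hc 1 (by norm_num)]

end Cfsg.Agent.Lib.OmegaEight96
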