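import Cfsg.Agent.Lib.OmegaEight96.Triples
import Cfsg.Agent.S5515

/-!
The thirteen classes of subgroups of order three of `PΩ⁺(8,3)` fuse into seven under
`PΩ⁺(8,3):S₃`.
-/

set_option autoImplicit false

namespace Cfsg.Agent.Lib.OmegaEight96

open POmegaTriality POmegaAut

theorem Rel.eq {τ : MulAut PO} (hT : Moves τ pT) {i j : Fin 13} (h : Rel i j) : i = j :=
  fix_separates i j h.fixT_eq (h.map hT).fixT_eq ((h.map moves_kAut).map hT).fixT_eq

theorem exists_triality' : ∃ τ : MulAut PO, Moves τ pT ∧ τ * τ = 1 ∧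
    kAut (ZMod 3) * τ * kAut (ZMod 3) = τ * kAut (ZMod 3) * τ := by
  obtain ⟨τ, h1, h2, h3⟩ := exists_triality (F := ZMod 3)
  exact ⟨τ, moves_triality h3, h1, h2⟩

/-- A generic fact on the subgroups generated by two elements of order three. -/
theorem conj_or_inv {G : Type*} [Group G] {a b g : G} (ha : a ≠ 1) (hb : b ^ 3 = 1)
    (h : (Subgroup.zpowers a).map (MulAut.conj g).toMonoidHom = Subgroup.zpowers b) :
    g * a * g⁻¹ = b ∨ g * a * g⁻¹ = b⁻¹ := by
  rw [MonoidHom.map_zpowers] at h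
  obtain ⟨k, hk⟩ : g * a * g⁻¹ ∈ Subgroup.zpowers b := h ▸ Subgroup.mem_zpowers _
  have hmod : b ^ k = b ^ (k % 3) := by
    conv_lhs => rw [← Int.emod_add_mul_ediv k 3, zpow_add, zpow_mul, zpow_ofNat, hb, one_zpow, mul_one]
  rw [← hk, show (fun x : ℤ => b ^ x) k = b ^ k from rfl, hmod]
  rcases (by omega : k % 3 = 0 ∨ k % 3 = 1 ∨ k % 3 = 2) with e | e | e <;> rw [e]
  · exfalso
    rw [show (fun x : ℤ => b ^ x) k = b ^ k from rfl, hmod, e, zpow_zero] at hk
    exact ha (conj_eq_one_iff.1 hk.symm)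
  · exact Or.inl (zpow_one b)
  · refine Or.inr (eq_inv_of_mul_eq_one_left ?_)
    rw [← zpow_add_one, show (2 : ℤ) + 1 = ((3 : ℕ) : ℤ) from rfl, zpow_natCast]
    exact hb

/-- A subgroup of order three of `PΩ⁺(8,3)` is conjugate to one of the thirteen. -/
theorem exists_class {X : Subgroup PO} (hX : Nat.card X = 3) :
    ∃ (i : Fin 13) (p : PO), X.map (MulAut.conj p).toMonoidHom = Subgroup.zpowers (el i) := by
  obtain ⟨⟨x, hxX⟩, hx1⟩ : ∃ x : X, x ≠ 1 := by
    by_contra! h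
    have : Subsingleton X := ⟨fun a b => (h a).trans (h b).symm⟩
    simp at hX
  have hgen : X = Subgroup.zpowers x := by
    refine le_antisymm (fun y hy => ?_) (Subgroup.zpowers_le.2 hxX)
    obtain ⟨k, hk⟩ := (Subgroup.mem_zpowers_iff).1
      (mem_zpowers_of_prime_card hX hx1 : (⟨y, hy⟩ : X) ∈ Subgroup.zpowers ⟨x, hxX⟩)
    exact ⟨k, by simpa using congrArg Subtype.val hk⟩
  have hx3 : x ^ 3 = 1 := by
    have := congrArg Subtype.val (pow_card_eq_one' (x := (⟨x, hxX⟩ : X)))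
    rwa [hX] at this
  obtain ⟨p, i, hp⟩ := exists_conj_el hx3 fun e => hx1 (Subtype.ext e)
  refine ⟨i, p, ?_⟩
  rw [hgen, MonoidHom.map_zpowers]
  exact congrArg Subgroup.zpowers hp

theorem card_el (i : Fin 13) : Nat.card (Subgroup.zpowers (el i)) = 3 := by
  rw [Nat.card_zpowers]
  exact orderOf_eq_prime (el_cube i) (el_ne_one i)

/-- The thirteen classes. -/
theorem thirteen_classes : ∃ Y : Fin 13 → Subgroup PO, (∀ i, Nat.card (Y i) = 3) ∧
    (∀ i j, (∃ g, (Y i).map (MulAut.conj g).toMonoidHom = Y j) → i = j) ∧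
    ∀ X : Subgroup PO, Nat.card X = 3 → ∃ i, ∃ g, X.map (MulAut.conj g).toMonoidHom = Y i := by
  obtain ⟨τ, hT, -, -⟩ := exists_triality'
  exact ⟨fun i => Subgroup.zpowers (el i), card_el,
    fun i j ⟨g, hg⟩ => Rel.eq hT ⟨g, conj_or_inv (el_ne_one i) (el_cube j) hg⟩,
    fun X hX => exists_class hX⟩

/-- The first class of each of the seven orbits. -/
def orbitRep : Fin 7 → Fin 13 := ![0, 1, 2, 7, 8, 9, 12]

/-- The orbit of a class. -/
def orbitOf : Fin 13 → Fin 7 := ![0, 1, 2, 2, 1, 1, 2, 3, 4, 5, 4, 4, 6]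

theorem orbit_ok : (∀ i, orbitOf (pK i) = orbitOf i ∧ orbitOf (pT i) = orbitOf i) ∧
    (∀ o, orbitOf (orbitRep o) = o) ∧
    ∀ i, i = orbitRep (orbitOf i) ∨ i = pK (orbitRep (orbitOf i)) ∨
      i = pT (orbitRep (orbitOf i)) ∨ i = pT (pK (orbitRep (orbitOf i))) ∨
      i = pK (pT (orbitRep (orbitOf i))) := by
  decide +kernel

/-- The orbits are preserved. -/
def Pres (α : MulAut PO) : Prop :=
  ∀ i, ∃ j, orbitOf j = orbitOf i ∧ ∃ p : PO, α (el i) = p * el j * p⁻¹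

theorem Pres.mul {α β : MulAut PO} (ha : Pres α) (hb : Pres β) : Pres (α * β) := fun i => by
  obtain ⟨j, hj, p, hp⟩ := hb i
  obtain ⟨l, hl, q, hq⟩ := ha j
  refine ⟨l, hl.trans hj, α p * q, ?_⟩
  rw [MulAut.mul_apply, hp, map_mul, map_mul, map_inv, hq]
  group

theorem Pres.one : Pres 1 := fun i => ⟨i, rfl, 1, by simp⟩

theorem Pres.conj (y : PO) : Pres (MulAut.conj y) := fun i => ⟨i, rfl, y, rfl⟩

theorem perm_fact : ∀ K : Equiv.Perm (Fin 4), K * K = 1 → ∀ T : Equiv.Perm (Fin 4), T * T = 1 →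
    K * T * K = T * K * T → K ≠ T → ∃ d, K d = d ∧ T d = d ∧
      ∀ σ : Equiv.Perm (Fin 4), σ d = d →
        σ = 1 ∨ σ = K ∨ σ = T ∨ σ = K * T ∨ σ = T * K ∨ σ = K * T * K := by
  decide +kernel

local notation "κ" => kAut (ZMod 3)

/-- The seven orbits. -/
theorem seven_orbits (e0 : Cfsg.Out PO ≃* Equiv.Perm (Fin 4)) (hL : Subgroup.center PO = ⊥)
    {G : Type*} [Group G] [Finite G] (L : Subgroup G) (hLF : L = Cfsg.generalizedFittingSubgroup G)
    [hn : L.Normal] (e : ↥L ≃* PO) (hq : Nonempty (G ⧸ L ≃* Equiv.Perm (Fin 3))) :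
    ∃ Y : Fin 7 → Subgroup G, (∀ i, Y i ≤ L ∧ Nat.card (Y i) = 3) ∧
      (∀ i j, (∃ g : G, (Y i).map (MulAut.conj g).toMonoidHom = Y j) → i = j) ∧
      ∀ X : Subgroup G, X ≤ L → Nat.card X = 3 → ∃ i, ∃ g : G,
        X.map (MulAut.conj g).toMonoidHom = Y i := by
  obtain ⟨τ, hT, hτ2, hbr⟩ := exists_triality'
  let π : MulAut PO →* Equiv.Perm (Fin 4) :=
    e0.toMonoidHom.comp (QuotientGroup.mk' (Cfsg.Inn PO))
  have hπ : ∀ a b, π a = π b → ∃ y, a = b * MulAut.conj y := fun a b h => by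
    have h1 : QuotientGroup.mk' (Cfsg.Inn PO) b = QuotientGroup.mk' (Cfsg.Inn PO) a :=
      e0.injective h.symm
    rw [QuotientGroup.mk'_eq_mk'] at h1
    obtain ⟨z, ⟨y, rfl⟩, hz⟩ := h1
    exact ⟨y, hz.symm⟩
  have hne : π κ ≠ π τ := fun h => by
    obtain ⟨y, hy⟩ := hπ _ _ h.symm
    obtain ⟨u, hu⟩ := hT 1
    obtain ⟨w, hw⟩ := moves_kAut 1
    have : Rel (pK 1) (pT 1) := by
      refine ⟨u⁻¹ * κ y * w, Or.inl ?_⟩
      have h1 : τ (el 1) = κ y * (w * el (pK 1) * w⁻¹) * (κ y)⁻¹ := by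
        rw [hy, MulAut.mul_apply, MulAut.conj_apply, map_mul, map_mul, map_inv, hw]
      rw [hu] at h1
      calc u⁻¹ * κ y * w * el (pK 1) * (u⁻¹ * κ y * w)⁻¹
          = u⁻¹ * (κ y * (w * el (pK 1) * w⁻¹) * (κ y)⁻¹) * u := by group
        _ = el (pT 1) := by rw [← h1]; group
    exact absurd (Rel.eq hT this) (by decide +kernel)
  obtain ⟨d₀, hKd, hTd, hstab⟩ := perm_fact (π κ) (by rw [← map_mul, kAut_mul_self, map_one])
    (π τ) (by rw [← map_mul, hτ2, map_one]) (by rw [← map_mul, ← map_mul, hbr, map_mul, map_mul]) hne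
  have hpk : Pres κ := fun i => ⟨pK i, (orbit_ok.1 i).1, moves_kAut i⟩
  have hpt : Pres τ := fun i => ⟨pT i, (orbit_ok.1 i).2, hT i⟩
  have hpres : ∀ a ∈ POmegaEight.outStab e0 d₀, Pres a := fun a ha => by
    have key : ∀ w : MulAut PO, Pres w → π a = π w → Pres a := fun w hw h => by
      obtain ⟨y, rfl⟩ := hπ _ _ h
      exact hw.mul (Pres.conj y)
    rcases hstab (π a) ha with h | h | h | h | h | h
    · exact key 1 Pres.one (h.trans (map_one π).symm)
    · exact key κ hpk h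
    · exact key τ hpt h
    · exact key (κ * τ) (hpk.mul hpt) (h.trans (map_mul π κ τ).symm)
    · exact key (τ * κ) (hpt.mul hpk) (h.trans (map_mul π τ κ).symm)
    · exact key (κ * τ * κ) ((hpk.mul hpt).mul hpk)
        (h.trans (by rw [map_mul π, map_mul π]))
  have hkm : κ ∈ POmegaEight.outStab e0 d₀ := hKd
  have htm : τ ∈ POmegaEight.outStab e0 d₀ := hTd
  have hreach : ∀ i, ∃ a ∈ POmegaEight.outStab e0 d₀, ∃ p : PO,
      a (el (orbitRep (orbitOf i))) = p * el i * p⁻¹ := fun i => by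
    set o := orbitRep (orbitOf i)
    rcases orbit_ok.2.2 i with h | h | h | h | h
    · exact ⟨1, one_mem _, 1, by simp [← h, o]⟩
    · exact ⟨κ, hkm, by rw [h]; exact moves_kAut o⟩
    · exact ⟨τ, htm, by rw [h]; exact hT o⟩
    · obtain ⟨p, hp⟩ := moves_kAut o
      obtain ⟨q, hq'⟩ := hT (pK o)
      refine ⟨τ * κ, mul_mem htm hkm, τ p * q, ?_⟩
      rw [MulAut.mul_apply, hp, map_mul, map_mul, map_inv, hq', ← h]
      group
    · obtain ⟨p, hp⟩ := hT o
      obtain ⟨q, hq'⟩ := moves_kAut (pT o)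
      refine ⟨κ * τ, mul_mem hkm htm, κ p * q, ?_⟩
      rw [MulAut.mul_apply, hp, map_mul, map_mul, map_inv, hq', ← h]
      group
  obtain ⟨d, φ, hinj, hrange, hφ⟩ := POmegaEight.exists_embedding hL e0 L hLF e hq
  obtain ⟨b, hb⟩ := POmegaEight.outStab_swap e0 d₀ d
  -- the identification of `L` with the simple group twisted by `b`
  obtain ⟨f, hfinj, hfconj, hfL, hfsurj⟩ : ∃ f : PO →* G, Function.Injective f ∧
      (∀ (g : G) (x : PO), g * f x * g⁻¹ = f (b⁻¹ (φ g (b x)))) ∧ (∀ y, f y ∈ L) ∧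
      ∀ x ∈ L, x ∈ f.range := by
    refine ⟨L.subtype.comp ((e.symm.toMonoidHom).comp b.toMonoidHom),
      L.subtype_injective.comp (e.symm.injective.comp b.injective), fun g x => ?_,
      fun y => SetLike.coe_mem (e.symm (b y)), fun x hx => ⟨b⁻¹ (e ⟨x, hx⟩), ?_⟩⟩
    · have h1 := hφ g (e.symm (b x))
      rw [MulEquiv.apply_symm_apply] at h1
      show g * (e.symm (b x) : G) * g⁻¹ = (e.symm (b (b⁻¹ (φ g (b x)))) : G)
      rw [show b (b⁻¹ (φ g (b x))) = φ g (b x) from b.apply_symm_apply _, h1,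
        MulEquiv.symm_apply_apply]
    · show (e.symm (b (b⁻¹ (e ⟨x, hx⟩))) : G) = x
      rw [show b (b⁻¹ (e ⟨x, hx⟩)) = e ⟨x, hx⟩ from b.apply_symm_apply _,
        MulEquiv.symm_apply_apply]
  have hin : ∀ g : G, b⁻¹ * φ g * b ∈ POmegaEight.outStab e0 d₀ := fun g => by
    have : φ g ∈ (POmegaEight.outStab e0 d₀).map (MulAut.conj b).toMonoidHom := by
      rw [hb, ← hrange]; exact ⟨g, rfl⟩
    obtain ⟨a, ha, h⟩ := this
    rw [← h]
    show b⁻¹ * (b * a * b⁻¹) * b ∈ _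
    simpa [mul_assoc] using ha
  have hout : ∀ a ∈ POmegaEight.outStab e0 d₀, ∃ g : G, φ g = b * a * b⁻¹ := fun a ha => by
    have : b * a * b⁻¹ ∈ φ.range := by rw [hrange, ← hb]; exact ⟨a, ha, rfl⟩
    exact this
  refine ⟨fun o => Subgroup.zpowers (f (el (orbitRep o))), fun o => ⟨?_, ?_⟩, ?_, ?_⟩
  · exact Subgroup.zpowers_le.2 (hfL _)
  · rw [Nat.card_zpowers, orderOf_injective f hfinj, ← Nat.card_zpowers, card_el]
  · rintro o o' ⟨g, hg⟩
    obtain ⟨j, hj, p, hp⟩ := hpres _ (hin g) (orbitRep o)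
    have hmain := conj_or_inv (fun h => el_ne_one _ (hfinj (h.trans (map_one f).symm)))
      (by rw [← map_pow, el_cube, map_one]) hg
    rw [hfconj, ← map_inv, hfinj.eq_iff, hfinj.eq_iff,
      show b⁻¹ (φ g (b (el (orbitRep o)))) = (b⁻¹ * φ g * b) (el (orbitRep o)) from rfl, hp] at hmain
    have hr : Rel j (orbitRep o') := ⟨p, hmain⟩
    rw [← orbit_ok.2.1 o, ← hj, Rel.eq hT hr, orbit_ok.2.1]
  · intro X hXL hX
    have hXr : X ≤ f.range := fun x hx => hfsurj x (hXL hx)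
    have hmapX := Subgroup.map_comap_eq_self hXr
    have hX' : Nat.card (X.comap f) = 3 := by
      refine Eq.trans ?_ hX
      conv_rhs => rw [← hmapX]
      exact Nat.card_congr (Subgroup.equivMapOfInjective _ f hfinj).toEquiv
    obtain ⟨i, p, hp⟩ := exists_class hX'
    obtain ⟨a, ha, q, hq'⟩ := hreach i
    obtain ⟨g, hg⟩ := hout a ha
    have hg' : g * f (el (orbitRep (orbitOf i))) * g⁻¹ = f q * f (el i) * (f q)⁻¹ := by
      rw [hfconj, hg, ← map_inv, ← map_mul, ← map_mul, ← hq']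
      congr 1
      show b⁻¹ (b (a (b⁻¹ (b (el (orbitRep (orbitOf i))))))) = _
      simp
    refine ⟨orbitOf i, g⁻¹ * f (q * p), ?_⟩
    have h1 : X.map (MulAut.conj (f (q * p))).toMonoidHom =
        Subgroup.zpowers (f q * f (el i) * (f q)⁻¹) := by
      conv_lhs => rw [← hmapX]
      rw [Subgroup.map_map, show (MulAut.conj (f (q * p))).toMonoidHom.comp f =
        f.comp ((MulAut.conj q).toMonoidHom.comp (MulAut.conj p).toMonoidHom) from
          MonoidHom.ext fun x => by simp [map_mul, mul_assoc],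
        ← Subgroup.map_map, ← Subgroup.map_map, hp, MonoidHom.map_zpowers, MonoidHom.map_zpowers]
      simp
    rw [show (MulAut.conj (g⁻¹ * f (q * p))).toMonoidHom =
      (MulAut.conj g⁻¹).toMonoidHom.comp (MulAut.conj (f (q * p))).toMonoidHom from
        MonoidHom.ext fun x => by simp [map_mul, mul_assoc],
      ← Subgroup.map_map, h1, ← hg', MonoidHom.map_zpowers]
    congr 1
    simp [mul_assoc]

end Cfsg.Agent.Lib.OmegaEight96
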