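import Cfsg.Agent.Lib.OmegaEight96.Final

/-!
The classes of subgroups of order three of `PΩ⁺(8,3)` and their images under the reflection at the
unit and under triality.
-/

set_option autoImplicit false
set_option maxRecDepth 100000

namespace Cfsg.Agent.Lib.OmegaEight96

open QuadraticMap POmegaTriality POmegaField POmegaAut

/-- The group `PΩ⁺(8,3)`. -/
abbrev PO : Type := Cfsg.POmega (ZMod 3) ⇑form

/-- A cube root of one as an element of `Ω`. -/
noncomputable def omegaEl (g : Iso8) (h : g ^ 3 = 1) : Omega (ZMod 3) ⇑form :=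
  ⟨g, mem_omega_of_cube h⟩

/-- The image of a representative. -/
noncomputable def el (i : Fin 13) : PO := proj ⇑form (omegaEl (rep i) (rep_cube i))

theorem center_mul_self {z : Omega (ZMod 3) ⇑form} (hz : z ∈ Subgroup.center (Omega (ZMod 3) ⇑form)) :
    z * z = 1 := by
  refine Subtype.ext (Orth.isometry_ext fun v => ?_)
  rw [Subgroup.coe_mul, Orth.app_mul, Subgroup.coe_one, Orth.app_one]
  rcases Orth.scalar_of_commute_omega two_ne form_nondeg (by rw [card_idx]; norm_num) (z := z.1)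
    (fun g hg => congrArg Subtype.val (Subgroup.mem_center_iff.1 hz ⟨g, hg⟩)) with h | h
  · rw [h, h]
  · rw [h, h, neg_neg]

theorem eq_of_proj_eq {a b : Omega (ZMod 3) ⇑form} (ha : a ^ 3 = 1) (hb : b ^ 3 = 1)
    (h : proj ⇑form a = proj ⇑form b) : a = b := by
  have hz := proj_eq_iff.1 h
  set z := a⁻¹ * b with hzdef
  have hc : Commute a z := Subgroup.mem_center_iff.1 hz a
  have h3 : z ^ 3 = 1 := by
    rw [show b = a * z by rw [hzdef, mul_inv_cancel_left], hc.mul_pow, ha, one_mul] at hb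
    exact hb
  have h1 : z = 1 := by
    rw [pow_succ, pow_two, center_mul_self hz, one_mul] at h3
    exact h3
  exact inv_mul_eq_one.1 h1

theorem omega_cube {g : Iso8} (h : g ^ 3 = 1) : omegaEl g h ^ 3 = 1 := Subtype.ext h

theorem el_cube (i : Fin 13) : el i ^ 3 = 1 := by
  rw [el, ← map_pow, omega_cube, map_one]

theorem el_ne_one (i : Fin 13) : el i ≠ 1 := fun h =>
  rep_ne_one i (congrArg Subtype.val (eq_of_proj_eq (omega_cube (rep_cube i)) (one_pow 3)
    (h.trans (map_one _).symm)))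

theorem proj_conj {s : Iso8} (hs : s ∈ Omega (ZMod 3) ⇑form) {a b : Omega (ZMod 3) ⇑form}
    (h : s * a.1 * s⁻¹ = b.1) :
    proj ⇑form ⟨s, hs⟩ * proj ⇑form a * (proj ⇑form ⟨s, hs⟩)⁻¹ = proj ⇑form b := by
  rw [← map_inv, ← map_mul, ← map_mul]
  exact congrArg _ (Subtype.ext h)

/-- Every element of order three is conjugate to one of the thirteen. -/
theorem exists_conj_el {x : PO} (hx : x ^ 3 = 1) (hx1 : x ≠ 1) :
    ∃ (p : PO) (i : Fin 13), p * x * p⁻¹ = el i := by
  obtain ⟨a, rfl⟩ := proj_surjective _ x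
  have hz : a ^ 3 ∈ Subgroup.center (Omega (ZMod 3) ⇑form) := by
    have := proj_eq_iff.1 ((map_one (proj ⇑form)).trans (hx.symm.trans (map_pow _ _ _).symm))
    rwa [inv_one, one_mul] at this
  set z := a ^ 3 with hzdef
  set b := a * z with hbdef
  have hb : proj ⇑form b = proj ⇑form a := by
    rw [hbdef, map_mul, hzdef, map_pow, hx, mul_one]
  have hb3 : b ^ 3 = 1 := by
    rw [hbdef, Commute.mul_pow (Subgroup.mem_center_iff.1 hz a), ← hzdef]
    calc z * z ^ 3 = (z * z) * (z * z) := by simp only [pow_succ, pow_zero, one_mul, mul_assoc]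
      _ = 1 := by rw [center_mul_self hz, one_mul]
  have hb1 : (b : Iso8) ≠ 1 := fun h => hx1 (by
    rw [← hb, show b = 1 from Subtype.ext h, map_one])
  obtain ⟨s, hs, i, hi⟩ := exists_conj_rep_omega
    (show (b : Iso8) ^ 3 = 1 by rw [← Subgroup.coe_pow, hb3]; rfl) hb1
  exact ⟨proj ⇑form ⟨s, hs⟩, i, by rw [← hb]; exact proj_conj hs hi⟩

/-- The subgroups generated by two representatives are conjugate. -/
def Rel (i j : Fin 13) : Prop := ∃ p : PO, p * el i * p⁻¹ = el j ∨ p * el i * p⁻¹ = (el j)⁻¹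

theorem Rel.fixT_eq {i j : Fin 13} (h : Rel i j) : fixT i = fixT j := by
  obtain ⟨p, hp⟩ := h
  obtain ⟨s, rfl⟩ := proj_surjective _ p
  set a := omegaEl (rep i) (rep_cube i)
  set b := omegaEl (rep j) (rep_cube j)
  have key : ∀ c : Omega (ZMod 3) ⇑form, c ^ 3 = 1 →
      proj ⇑form s * proj ⇑form a * (proj ⇑form s)⁻¹ = proj ⇑form c → (s * a * s⁻¹ : _) = c :=
    fun c hc e => eq_of_proj_eq (by rw [conj_pow, omega_cube, mul_one, mul_inv_cancel]) hc
      (by rw [map_mul, map_mul, map_inv]; exact e)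
  refine fixT_eq_of_conj (g := s.1) (hp.imp (fun e => ?_) fun e => ?_)
  · exact congrArg Subtype.val (key b (omega_cube _) e)
  · exact congrArg Subtype.val (key b⁻¹ (by rw [inv_pow, omega_cube, inv_one])
      (by rw [map_inv]; exact e))

/-- An automorphism moves the representatives, up to conjugacy, by `π`. -/
def Moves (α : MulAut PO) (π : Fin 13 → Fin 13) : Prop :=
  ∀ i, ∃ p : PO, α (el i) = p * el (π i) * p⁻¹

theorem Rel.map {α : MulAut PO} {π : Fin 13 → Fin 13} (hα : Moves α π) {i j : Fin 13}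
    (h : Rel i j) : Rel (π i) (π j) := by
  obtain ⟨p, hp⟩ := h
  obtain ⟨u, hu⟩ := hα i
  obtain ⟨w, hw⟩ := hα j
  refine ⟨w⁻¹ * α p * u, hp.imp (fun e => ?_) fun e => ?_⟩
  · have := congrArg α e
    rw [map_mul, map_mul, map_inv, hu, hw] at this
    calc w⁻¹ * α p * u * el (π i) * (w⁻¹ * α p * u)⁻¹
        = w⁻¹ * (α p * (u * el (π i) * u⁻¹) * (α p)⁻¹) * w := by group
      _ = el (π j) := by rw [this]; group
  · have := congrArg α e
    rw [map_mul, map_mul, map_inv, map_inv, hu, hw] at this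
    calc w⁻¹ * α p * u * el (π i) * (w⁻¹ * α p * u)⁻¹
        = w⁻¹ * (α p * (u * el (π i) * u⁻¹) * (α p)⁻¹) * w := by group
      _ = (el (π j))⁻¹ := by rw [this]; group

/-- The permutation of the classes by the reflection at the unit. -/
def pK (i : Fin 13) : Fin 13 := Fin.ofNat 13 (permK.getD i.val 0)

/-- The permutation of the classes by triality. -/
def pT (i : Fin 13) : Fin 13 := Fin.ofNat 13 (permT.getD i.val 0)

theorem fix_separates : ∀ i j : Fin 13, fixT i = fixT j → fixT (pT i) = fixT (pT j) →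
    fixT (pT (pK i)) = fixT (pT (pK j)) → i = j := by
  decide +kernel

/-- The code of the unit. -/
def oneV : ℕ := 17

theorem conjK_ok : ∀ i : Fin 13, conjOK (conjK.getD i.val [])
    (mulC (mulC (reflM oneV) (repM i)) (reflM oneV)) (repM (pK i)) = true := by
  decide +kernel

theorem dec_oneV : dec oneV = oone := by
  funext j; revert j; decide +kernel

theorem hasMat_r : HasMat (Orth.refl form oone Qo_oone_ne) (reflM oneV) := by
  have h : form (dec oneV) ≠ 0 := by rw [dec_oneV]; exact Qo_oone_ne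
  rw [← Orth.refl_congr h Qo_oone_ne dec_oneV]
  exact hasMat_refl oneV h

theorem conj_el (s : Omega (ZMod 3) ⇑form) :
    MulAut.conj (proj ⇑form s) = simAut (isoSim s.1) :=
  conj_proj_eq s

theorem moves_kAut : Moves (kAut (ZMod 3)) pK := by
  intro i
  set r := Orth.refl form oone Qo_oone_ne with hr
  have hr2 : r * r = 1 := Orth.refl_mul_self _
  have hr' : r⁻¹ = r := inv_eq_of_mul_eq_one_right hr2
  have h3 : (r * rep i * r) ^ 3 = 1 := by
    conv_lhs => arg 1; arg 2; rw [← hr']
    rw [conj_pow, rep_cube, mul_one, mul_inv_cancel]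
  have hk : kAut (ZMod 3) (el i) = proj ⇑form (omegaEl _ h3) := by
    refine conj_injective0 (setting0_plus (F := ZMod 3) (show 3 ≤ 4 by omega)) ?_
    rw [← conj_kAut, el, conj_el, conj_el, kAut, ← map_mul, ← map_mul]
    refine congrArg simAut ?_
    show isoSim r * isoSim (rep i) * isoSim r = isoSim (r * rep i * r)
    rw [map_mul, map_mul]
  obtain ⟨s, hs, he⟩ := conjOK_spec (conjK_ok i)
    ((hasMat_r.mul (hasMat_rep i)).mul hasMat_r) (hasMat_rep (pK i))
  refine ⟨(proj ⇑form ⟨s, hs⟩)⁻¹, ?_⟩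
  rw [hk, el, ← proj_conj hs (a := omegaEl _ h3) (b := omegaEl (rep (pK i)) (rep_cube _)) he]
  group

/-- Product of split octonions on codes. -/
def omulC (m n : ℕ) : ℕ :=
  ofTrits
    [(trit m 0 * trit n 0 + 2 * (trit m 1 * trit n 5 + trit m 2 * trit n 6 + trit m 3 * trit n 7)) % 3,
     (trit m 0 * trit n 1 + trit n 4 * trit m 1 + 2 * (trit m 6 * trit n 7) + trit m 7 * trit n 6) % 3,
     (trit m 0 * trit n 2 + trit n 4 * trit m 2 + 2 * (trit m 7 * trit n 5) + trit m 5 * trit n 7) % 3,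
     (trit m 0 * trit n 3 + trit n 4 * trit m 3 + 2 * (trit m 5 * trit n 6) + trit m 6 * trit n 5) % 3,
     (trit m 4 * trit n 4 + 2 * (trit m 5 * trit n 1 + trit m 6 * trit n 2 + trit m 7 * trit n 3)) % 3,
     (trit n 0 * trit m 5 + trit m 4 * trit n 5 + 2 * (trit m 2 * trit n 3) + trit m 3 * trit n 2) % 3,
     (trit n 0 * trit m 6 + trit m 4 * trit n 6 + 2 * (trit m 3 * trit n 1) + trit m 1 * trit n 3) % 3,
     (trit n 0 * trit m 7 + trit m 4 * trit n 7 + 2 * (trit m 1 * trit n 2) + trit m 2 * trit n 1) % 3] 0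

theorem trit_ofTrits {l : List ℕ} (hl : l.length = 8) (h : ∀ c ∈ l, c ≤ 2) {i : ℕ} (hi : i < 8) :
    trit (ofTrits l 0) i = l.getD i 0 :=
  beq_iff_eq.1 (List.all_eq_true.1 (List.all_eq_true.1 allCodes_spec l (mem_allTrits 8 l hl h)) i
    (List.mem_range.2 hi))

theorem dec_omulC (m n : ℕ) : dec (omulC m n) = omul (dec m) (dec n) := by
  have h2 : (2 : ZMod 3) = -1 := by decide
  have e : ∀ a : ℕ, a % 3 ≤ 2 := fun a => by omega
  funext j
  show ((trit (omulC m n) (num j) : ℕ) : ZMod 3) = _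
  rw [omulC, trit_ofTrits (by simp) (by simp [e]) (num_lt j)]
  rcases j with k | k <;> fin_cases k <;>
    simp [num, idxEquiv, omul, dec, ZMod.natCast_mod, h2] <;> ring

/-- Three matrices form a related triple. -/
def tripleOK (A B C : List ℕ) : Bool :=
  (List.range 8).all fun i => (List.range 8).all fun j =>
    eqC (appC A (omulC (unitC i) (unitC j))) (omulC (colAt B i) (colAt C j))

/-- The multiplication as a bilinear map. -/
def omulB : Vec →ₗ[ZMod 3] Vec →ₗ[ZMod 3] Vec :=
  LinearMap.mk₂ (ZMod 3) omul omul_add_left omul_smul_left omul_add_right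
    (fun c x y => omul_smul_right c x y)

theorem tripleOK_spec {A B C : List ℕ} (h : tripleOK A B C = true) (x y : Vec) :
    (toMat A).mulVec (omul x y) = omul ((toMat B).mulVec x) ((toMat C).mulVec y) := by
  simp only [tripleOK, List.all_eq_true, List.mem_range, eqC_iff] at h
  have hb : omulB.compr₂ (toMat A).mulVecLin =
      omulB.compl₁₂ (toMat B).mulVecLin (toMat C).mulVecLin := by
    refine LinearMap.ext_basis (Pi.basisFun (ZMod 3) Idx) (Pi.basisFun (ZMod 3) Idx) fun i j => ?_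
    have hij := h _ (num_lt i) _ (num_lt j)
    rw [dec_appC, dec_omulC, dec_omulC, dec_unitC, dec_unitC] at hij
    simp only [LinearMap.compr₂_apply, LinearMap.compl₁₂_apply, omulB, LinearMap.mk₂_apply,
      Matrix.mulVecLin_apply, Pi.basisFun_apply, toMat_mulVec_single]
    exact hij
  simpa [omulB] using LinearMap.congr_fun (LinearMap.congr_fun hb x) y

theorem triOne_ok : ∀ i : Fin 13, isoOK (triOne.getD i.val []) = true ∧
    cubeOne (triOne.getD i.val []) = true ∧ isoOK (triTwo.getD i.val []) = true ∧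
    tripleOK (repM i) (triOne.getD i.val []) (triTwo.getD i.val []) = true ∧
    conjOK (conjT.getD i.val []) (triOne.getD i.val []) (repM (pT i)) = true := by
  decide +kernel

theorem moves_triality {τ : MulAut PO}
    (hτ : ∀ t : ↥(triples (ZMod 3)), τ * π₀ (ZMod 3) t * τ⁻¹ = π₁ (ZMod 3) t) : Moves τ pT := by
  intro i
  obtain ⟨h1, hc, h2, ht, hconj⟩ := triOne_ok i
  set g1 := isoOf _ h1
  set g2 := isoOf _ h2
  have h3 : g1 ^ 3 = 1 := cube_of_cubeOne (hasMat_isoOf h1) hc
  let t : ↥(triples (ZMod 3)) := ⟨(isoSim (rep i), isoSim g1, isoSim g2), fun x y => by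
    show Orth.app (rep i) (omul x y) = omul (Orth.app g1 x) (Orth.app g2 y)
    simp only [Orth.app]
    rw [hasMat_rep i, hasMat_isoOf h1, hasMat_isoOf h2]
    exact tripleOK_spec ht x y⟩
  have hk : τ (el i) = proj ⇑form (omegaEl g1 h3) := by
    refine conj_injective0 (setting0_plus (F := ZMod 3) (show 3 ≤ 4 by omega)) ?_
    rw [← conjMulAut_comm, el, conj_el, conj_el]
    exact hτ t
  obtain ⟨s, hs, he⟩ := conjOK_spec hconj (hasMat_isoOf h1) (hasMat_rep (pT i))
  refine ⟨(proj ⇑form ⟨s, hs⟩)⁻¹, ?_⟩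
  rw [hk, el, ← proj_conj hs (a := omegaEl _ h3) (b := omegaEl (rep (pT i)) (rep_cube _)) he]
  group

end Cfsg.Agent.Lib.OmegaEight96
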